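import Mathlib

/-! The nine generators of Fi22 as 78 × 78 matrices modulo 13: the nonzero entries of each column. -/

set_option autoImplicit false
set_option maxRecDepth 100000

namespace Cfsg.Agent.Lib.FiTwentyTwoRep

/-- generator number 0 -/
def cols0 : List (List (ℕ × ℕ)) := [
  [(0, 12)],
  [(1, 12)],
  [(2, 12)],
  [(3, 12)],
  [(61, 12)],
  [(5, 12)],
  [(6, 12)],
  [(7, 12)],
  [(8, 12)],
  [(60, 12)],
  [(10, 12)],
  [(11, 12)],
  [(12, 12)],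
  [(13, 12)],
  [(14, 12)],
  [(15, 12)],
  [(16, 12)],
  [(59, 12)],
  [(18, 12)],
  [(19, 12)],
  [(57, 12)],
  [(21, 12)],
  [(58, 12)],
  [(23, 12)],
  [(24, 12)],
  [(55, 12)],
  [(26, 12)],
  [(27, 12)],
  [(28, 12)],
  [(29, 12)],
  [(56, 12)],
  [(53, 12)],
  [(32, 12)],
  [(33, 12)],
  [(54, 12)],
  [(52, 12)],
  [(36, 12)],
  [(50, 12)],
  [(38, 12)],
  [(51, 12)],
  [(49, 12)],
  [(41, 12)],
  [(46, 12)],
  [(45, 12)],
  [(48, 12)],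
  [(43, 12)],
  [(42, 12)],
  [(47, 12)],
  [(44, 12)],
  [(40, 12)],
  [(37, 12)],
  [(39, 12)],
  [(35, 12)],
  [(31, 12)],
  [(34, 12)],
  [(25, 12)],
  [(30, 12)],
  [(20, 12)],
  [(22, 12)],
  [(17, 12)],
  [(9, 12)],
  [(4, 12)],
  [(62, 1)],
  [(63, 1)],
  [(63, 12), (64, 12)],
  [(65, 1)],
  [(65, 12), (66, 12)],
  [(63, 12), (67, 12)],
  [(68, 1)],
  [(68, 12), (69, 12)],
  [(63, 12), (70, 12)],
  [(71, 1)],
  [(71, 12), (72, 12)],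
  [(63, 12), (73, 12)],
  [(74, 1)],
  [(74, 12), (75, 12)],
  [(65, 12), (76, 12)],
  [(68, 12), (77, 12)]]

/-- generator number 1 -/
def cols1 : List (List (ℕ × ℕ)) := [
  [(0, 12)],
  [(1, 12)],
  [(2, 12)],
  [(3, 12)],
  [(4, 1)],
  [(9, 12)],
  [(6, 12)],
  [(7, 12)],
  [(8, 12)],
  [(5, 12)],
  [(10, 12)],
  [(17, 12)],
  [(12, 12)],
  [(13, 12)],
  [(20, 12)],
  [(22, 12)],
  [(16, 12)],
  [(11, 12)],
  [(18, 12)],
  [(25, 12)],
  [(14, 12)],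
  [(21, 12)],
  [(15, 12)],
  [(30, 12)],
  [(24, 12)],
  [(19, 12)],
  [(34, 12)],
  [(31, 12)],
  [(28, 12)],
  [(35, 12)],
  [(23, 12)],
  [(27, 12)],
  [(37, 12)],
  [(39, 12)],
  [(26, 12)],
  [(29, 12)],
  [(43, 12)],
  [(32, 12)],
  [(44, 12)],
  [(33, 12)],
  [(40, 12)],
  [(46, 12)],
  [(42, 12)],
  [(36, 12)],
  [(38, 12)],
  [(45, 12)],
  [(41, 12)],
  [(49, 12)],
  [(48, 12)],
  [(47, 12)],
  [(50, 12)],
  [(51, 12)],
  [(52, 12)],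
  [(53, 12)],
  [(54, 12)],
  [(55, 12)],
  [(56, 12)],
  [(57, 12)],
  [(58, 12)],
  [(59, 12)],
  [(60, 12)],
  [(62, 12)],
  [(61, 12)],
  [(63, 12), (64, 12)],
  [(64, 1)],
  [(65, 12), (66, 12)],
  [(66, 1)],
  [(66, 12), (67, 12)],
  [(68, 12), (69, 12)],
  [(69, 1)],
  [(69, 12), (70, 12)],
  [(71, 12), (72, 12)],
  [(72, 1)],
  [(72, 12), (73, 12)],
  [(74, 12), (75, 12)],
  [(75, 1)],
  [(75, 12), (76, 12)],
  [(75, 12), (77, 12)]]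

/-- generator number 2 -/
def cols2 : List (List (ℕ × ℕ)) := [
  [(0, 12)],
  [(1, 12)],
  [(2, 12)],
  [(3, 12)],
  [(9, 12)],
  [(5, 1)],
  [(11, 12)],
  [(15, 12)],
  [(8, 12)],
  [(4, 12)],
  [(14, 12)],
  [(6, 12)],
  [(12, 12)],
  [(23, 12)],
  [(10, 12)],
  [(7, 12)],
  [(16, 12)],
  [(17, 12)],
  [(19, 12)],
  [(18, 12)],
  [(20, 12)],
  [(26, 12)],
  [(22, 12)],
  [(13, 12)],
  [(27, 12)],
  [(25, 12)],
  [(21, 12)],
  [(24, 12)],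
  [(33, 12)],
  [(29, 12)],
  [(30, 12)],
  [(31, 12)],
  [(32, 12)],
  [(28, 12)],
  [(34, 12)],
  [(40, 12)],
  [(36, 12)],
  [(42, 12)],
  [(38, 12)],
  [(39, 12)],
  [(35, 12)],
  [(41, 12)],
  [(37, 12)],
  [(48, 12)],
  [(45, 12)],
  [(44, 12)],
  [(50, 12)],
  [(47, 12)],
  [(43, 12)],
  [(52, 12)],
  [(46, 12)],
  [(51, 12)],
  [(49, 12)],
  [(53, 12)],
  [(54, 12)],
  [(55, 12)],
  [(56, 12)],
  [(57, 12)],
  [(58, 12)],
  [(59, 12)],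
  [(61, 12)],
  [(60, 12)],
  [(62, 12)],
  [(63, 1)],
  [(63, 12), (64, 12)],
  [(65, 1)],
  [(65, 12), (66, 12)],
  [(63, 12), (67, 12)],
  [(63, 12), (68, 12)],
  [(69, 12), (70, 12)],
  [(70, 1)],
  [(63, 12), (71, 12)],
  [(72, 12), (73, 12)],
  [(73, 1)],
  [(65, 12), (74, 12)],
  [(75, 12), (76, 12)],
  [(76, 1)],
  [(73, 12), (77, 12)]]

/-- generator number 3 -/
def cols3 : List (List (ℕ × ℕ)) := [
  [(0, 12)],
  [(7, 12)],
  [(10, 12)],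
  [(3, 12)],
  [(4, 12)],
  [(11, 12)],
  [(6, 1)],
  [(1, 12)],
  [(8, 12)],
  [(17, 12)],
  [(2, 12)],
  [(5, 12)],
  [(13, 12)],
  [(12, 12)],
  [(14, 12)],
  [(15, 12)],
  [(21, 12)],
  [(9, 12)],
  [(18, 12)],
  [(29, 12)],
  [(20, 12)],
  [(16, 12)],
  [(22, 12)],
  [(23, 12)],
  [(24, 12)],
  [(35, 12)],
  [(26, 12)],
  [(32, 12)],
  [(28, 12)],
  [(19, 12)],
  [(30, 12)],
  [(37, 12)],
  [(27, 12)],
  [(36, 12)],
  [(34, 12)],
  [(25, 12)],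
  [(33, 12)],
  [(31, 12)],
  [(38, 12)],
  [(43, 12)],
  [(40, 12)],
  [(41, 12)],
  [(42, 12)],
  [(39, 12)],
  [(44, 12)],
  [(51, 12)],
  [(46, 12)],
  [(47, 12)],
  [(48, 12)],
  [(49, 12)],
  [(53, 12)],
  [(45, 12)],
  [(55, 12)],
  [(50, 12)],
  [(54, 12)],
  [(52, 12)],
  [(56, 12)],
  [(57, 12)],
  [(58, 12)],
  [(60, 12)],
  [(59, 12)],
  [(61, 12)],
  [(62, 12)],
  [(63, 12), (68, 12)],
  [(64, 12), (69, 12)],
  [(65, 12), (74, 12)],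
  [(66, 12), (75, 12)],
  [(67, 12), (77, 12)],
  [(68, 1)],
  [(69, 1)],
  [(69, 12), (70, 12)],
  [(71, 12), (74, 12)],
  [(72, 12), (75, 12)],
  [(73, 12), (77, 12)],
  [(74, 1)],
  [(75, 1)],
  [(75, 12), (76, 12)],
  [(77, 1)]]

/-- generator number 4 -/
def cols4 : List (List (ℕ × ℕ)) := [
  [(12, 12)],
  [(1, 1)],
  [(2, 12)],
  [(3, 12)],
  [(4, 12)],
  [(5, 12)],
  [(7, 12)],
  [(6, 12)],
  [(16, 12)],
  [(9, 12)],
  [(18, 12)],
  [(15, 12)],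
  [(0, 12)],
  [(13, 12)],
  [(19, 12)],
  [(11, 12)],
  [(8, 12)],
  [(22, 12)],
  [(10, 12)],
  [(14, 12)],
  [(25, 12)],
  [(21, 12)],
  [(17, 12)],
  [(23, 12)],
  [(24, 12)],
  [(20, 12)],
  [(26, 12)],
  [(27, 12)],
  [(28, 12)],
  [(29, 12)],
  [(30, 12)],
  [(31, 12)],
  [(38, 12)],
  [(33, 12)],
  [(34, 12)],
  [(35, 12)],
  [(41, 12)],
  [(44, 12)],
  [(32, 12)],
  [(39, 12)],
  [(40, 12)],
  [(36, 12)],
  [(45, 12)],
  [(46, 12)],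
  [(37, 12)],
  [(42, 12)],
  [(43, 12)],
  [(47, 12)],
  [(50, 12)],
  [(49, 12)],
  [(48, 12)],
  [(51, 12)],
  [(52, 12)],
  [(53, 12)],
  [(54, 12)],
  [(57, 12)],
  [(56, 12)],
  [(55, 12)],
  [(59, 12)],
  [(58, 12)],
  [(60, 12)],
  [(61, 12)],
  [(62, 12)],
  [(63, 1)],
  [(64, 1)],
  [(63, 12), (65, 12)],
  [(64, 12), (66, 12)],
  [(63, 12), (67, 12)],
  [(63, 12), (68, 12)],
  [(64, 12), (69, 12)],
  [(63, 12), (70, 12)],
  [(71, 1)],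
  [(72, 1)],
  [(73, 1)],
  [(71, 12), (74, 12)],
  [(72, 12), (75, 12)],
  [(73, 12), (76, 12)],
  [(73, 12), (77, 12)]]

/-- generator number 5 -/
def cols5 : List (List (ℕ × ℕ)) := [
  [(0, 1)],
  [(12, 12)],
  [(2, 12)],
  [(8, 12)],
  [(4, 12)],
  [(5, 12)],
  [(6, 12)],
  [(13, 12)],
  [(3, 12)],
  [(9, 12)],
  [(10, 12)],
  [(11, 12)],
  [(1, 12)],
  [(7, 12)],
  [(14, 12)],
  [(23, 12)],
  [(16, 12)],
  [(17, 12)],
  [(24, 12)],
  [(27, 12)],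
  [(20, 12)],
  [(21, 12)],
  [(30, 12)],
  [(15, 12)],
  [(18, 12)],
  [(31, 12)],
  [(26, 12)],
  [(19, 12)],
  [(28, 12)],
  [(32, 12)],
  [(22, 12)],
  [(25, 12)],
  [(29, 12)],
  [(33, 12)],
  [(34, 12)],
  [(37, 12)],
  [(36, 12)],
  [(35, 12)],
  [(38, 12)],
  [(39, 12)],
  [(42, 12)],
  [(47, 12)],
  [(40, 12)],
  [(43, 12)],
  [(44, 12)],
  [(45, 12)],
  [(49, 12)],
  [(41, 12)],
  [(48, 12)],
  [(46, 12)],
  [(52, 12)],
  [(51, 12)],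
  [(50, 12)],
  [(55, 12)],
  [(54, 12)],
  [(53, 12)],
  [(58, 12)],
  [(57, 12)],
  [(56, 12)],
  [(59, 12)],
  [(60, 12)],
  [(61, 12)],
  [(62, 12)],
  [(63, 12), (65, 12)],
  [(64, 12), (66, 12)],
  [(65, 1)],
  [(66, 1)],
  [(66, 12), (67, 12)],
  [(68, 12), (74, 12)],
  [(69, 12), (75, 12)],
  [(70, 12), (76, 12)],
  [(71, 12), (74, 12)],
  [(72, 12), (75, 12)],
  [(73, 12), (76, 12)],
  [(74, 1)],
  [(75, 1)],
  [(76, 1)],
  [(75, 12), (77, 12)]]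

/-- generator number 6 -/
def cols6 : List (List (ℕ × ℕ)) := [
  [(8, 12)],
  [(1, 12)],
  [(2, 12)],
  [(3, 1)],
  [(4, 12)],
  [(5, 12)],
  [(6, 12)],
  [(7, 12)],
  [(0, 12)],
  [(9, 12)],
  [(10, 12)],
  [(11, 12)],
  [(16, 12)],
  [(21, 12)],
  [(14, 12)],
  [(15, 12)],
  [(12, 12)],
  [(17, 12)],
  [(18, 12)],
  [(19, 12)],
  [(20, 12)],
  [(13, 12)],
  [(22, 12)],
  [(26, 12)],
  [(28, 12)],
  [(25, 12)],
  [(23, 12)],
  [(33, 12)],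
  [(24, 12)],
  [(29, 12)],
  [(34, 12)],
  [(39, 12)],
  [(36, 12)],
  [(27, 12)],
  [(30, 12)],
  [(35, 12)],
  [(32, 12)],
  [(43, 12)],
  [(41, 12)],
  [(31, 12)],
  [(40, 12)],
  [(38, 12)],
  [(48, 12)],
  [(37, 12)],
  [(46, 12)],
  [(50, 12)],
  [(44, 12)],
  [(47, 12)],
  [(42, 12)],
  [(49, 12)],
  [(45, 12)],
  [(53, 12)],
  [(52, 12)],
  [(51, 12)],
  [(56, 12)],
  [(55, 12)],
  [(54, 12)],
  [(57, 12)],
  [(58, 12)],
  [(59, 12)],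
  [(60, 12)],
  [(61, 12)],
  [(62, 12)],
  [(63, 1)],
  [(64, 1)],
  [(63, 12), (65, 12)],
  [(64, 12), (66, 12)],
  [(63, 12), (67, 12)],
  [(68, 1)],
  [(69, 1)],
  [(70, 1)],
  [(63, 12), (71, 12)],
  [(64, 12), (72, 12)],
  [(63, 12), (73, 12)],
  [(68, 12), (74, 12)],
  [(69, 12), (75, 12)],
  [(70, 12), (76, 12)],
  [(68, 12), (77, 12)]]

/-- generator number 7 -/
def cols7 : List (List (ℕ × ℕ)) := [
  [(0, 12)],
  [(1, 12)],
  [(2, 1)],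
  [(3, 12)],
  [(4, 12)],
  [(5, 12)],
  [(10, 12)],
  [(18, 12)],
  [(8, 12)],
  [(9, 12)],
  [(6, 12)],
  [(14, 12)],
  [(12, 12)],
  [(24, 12)],
  [(11, 12)],
  [(19, 12)],
  [(16, 12)],
  [(20, 12)],
  [(7, 12)],
  [(15, 12)],
  [(17, 12)],
  [(28, 12)],
  [(25, 12)],
  [(27, 12)],
  [(13, 12)],
  [(22, 12)],
  [(33, 12)],
  [(23, 12)],
  [(21, 12)],
  [(29, 12)],
  [(31, 12)],
  [(30, 12)],
  [(32, 12)],
  [(26, 12)],
  [(39, 12)],
  [(35, 12)],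
  [(36, 12)],
  [(37, 12)],
  [(38, 12)],
  [(34, 12)],
  [(40, 12)],
  [(41, 12)],
  [(42, 12)],
  [(43, 12)],
  [(44, 12)],
  [(45, 12)],
  [(46, 12)],
  [(47, 12)],
  [(48, 12)],
  [(49, 12)],
  [(50, 12)],
  [(54, 12)],
  [(52, 12)],
  [(56, 12)],
  [(51, 12)],
  [(58, 12)],
  [(53, 12)],
  [(59, 12)],
  [(55, 12)],
  [(57, 12)],
  [(60, 12)],
  [(61, 12)],
  [(62, 12)],
  [(63, 1)],
  [(64, 1)],
  [(65, 1)],
  [(66, 1)],
  [(67, 1)],
  [(63, 12), (68, 12)],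
  [(64, 12), (69, 12)],
  [(63, 12), (70, 12)],
  [(63, 12), (71, 12)],
  [(64, 12), (72, 12)],
  [(63, 12), (73, 12)],
  [(65, 12), (74, 12)],
  [(66, 12), (75, 12)],
  [(65, 12), (76, 12)],
  [(67, 12), (77, 12)]]

/-- generator number 8 -/
def cols8 : List (List (ℕ × ℕ)) := [
  [(0, 6), (1, 3), (3, 3), (7, 3), (8, 10), (12, 10), (13, 10), (15, 3), (22, 3), (23, 10), (30, 10), (56, 10), (58, 3)],
  [(0, 3), (1, 6), (6, 3), (7, 10), (8, 3), (11, 3), (12, 10), (15, 10), (16, 10), (17, 3), (22, 10), (58, 10), (59, 3)],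
  [(2, 11), (10, 8), (14, 8), (18, 8), (19, 8), (20, 8), (24, 8), (25, 8), (27, 8), (28, 8), (29, 5), (31, 8), (32, 5), (33, 8), (35, 5), (36, 5), (37, 5), (38, 5), (39, 8), (40, 5), (41, 5), (42, 5), (43, 5), (44, 5), (45, 5), (46, 5), (47, 5), (48, 5), (49, 5), (50, 5), (51, 8), (52, 5), (53, 8), (55, 8), (57, 8), (63, 4), (64, 2), (65, 2), (66, 12), (67, 9), (68, 1), (69, 5), (70, 9), (71, 9), (72, 5), (73, 1), (74, 5), (75, 10), (76, 5), (77, 10)],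
  [(0, 3), (3, 6), (8, 10), (12, 3), (13, 3), (16, 10), (21, 10), (23, 3), (26, 10), (30, 3), (34, 10), (54, 10), (56, 3)],
  [(4, 6), (5, 3), (9, 10), (11, 3), (15, 3), (17, 10), (22, 10), (23, 3), (26, 3), (30, 10), (34, 10), (61, 10), (62, 3)],
  [(4, 3), (5, 6), (6, 3), (7, 3), (9, 10), (11, 10), (13, 3), (15, 10), (21, 3), (23, 10), (26, 10), (60, 10), (61, 3)],
  [(1, 3), (5, 3), (6, 6), (7, 10), (9, 3), (11, 10), (12, 3), (13, 10), (16, 3), (17, 10), (21, 10), (59, 10), (60, 3)],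
  [(0, 3), (1, 10), (5, 3), (6, 10), (7, 6), (8, 3), (9, 3), (13, 10), (15, 10), (21, 10), (22, 10), (58, 10), (60, 3)],
  [(0, 10), (1, 3), (3, 10), (7, 3), (8, 6), (15, 3), (16, 10), (21, 10), (22, 3), (26, 10), (34, 10), (54, 10), (58, 3)],
  [(4, 10), (5, 10), (6, 3), (7, 3), (9, 6), (13, 3), (17, 10), (21, 3), (22, 10), (30, 10), (34, 10), (60, 10), (62, 3)],
  [(2, 8), (10, 11), (14, 8), (18, 8), (19, 5), (20, 8), (24, 8), (25, 5), (27, 5), (28, 8), (29, 8), (31, 5), (32, 8), (33, 5), (35, 8), (36, 8), (37, 8), (38, 5), (39, 5), (40, 5), (41, 5), (42, 5), (43, 8), (44, 5), (45, 8), (46, 5), (47, 5), (48, 5), (49, 5), (50, 8), (51, 5), (52, 8), (53, 5), (55, 5), (57, 8), (63, 4), (64, 2), (65, 2), (66, 12), (67, 9), (68, 3), (69, 6), (70, 9), (71, 9), (72, 5), (73, 1), (74, 6), (75, 12), (76, 5)],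
  [(1, 3), (4, 3), (5, 10), (6, 10), (11, 6), (12, 3), (15, 10), (16, 3), (17, 10), (23, 10), (26, 10), (59, 10), (61, 3)],
  [(0, 10), (1, 10), (3, 3), (6, 3), (11, 3), (12, 6), (13, 10), (16, 10), (17, 3), (23, 10), (30, 10), (56, 10), (59, 3)],
  [(0, 10), (3, 3), (5, 3), (6, 10), (7, 10), (9, 3), (12, 10), (13, 6), (21, 10), (23, 10), (30, 10), (56, 10), (60, 3)],
  [(2, 8), (10, 8), (14, 11), (18, 5), (19, 8), (20, 8), (24, 5), (25, 5), (27, 8), (28, 5), (29, 8), (31, 5), (32, 8), (33, 8), (35, 5), (36, 8), (37, 5), (38, 5), (39, 5), (40, 8), (41, 5), (42, 8), (43, 5), (44, 8), (45, 5), (46, 8), (47, 5), (48, 8), (49, 8), (50, 5), (51, 5), (52, 5), (53, 5), (55, 5), (57, 8), (63, 6), (64, 2), (65, 3), (66, 12), (67, 9), (68, 3), (69, 6), (70, 10), (71, 9), (72, 5), (73, 4), (74, 6), (75, 12), (76, 7)],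
  [(0, 3), (1, 10), (4, 3), (5, 10), (7, 10), (8, 3), (11, 10), (15, 6), (22, 10), (23, 10), (26, 10), (58, 10), (61, 3)],
  [(1, 10), (3, 10), (6, 3), (8, 10), (11, 3), (12, 10), (16, 6), (17, 3), (21, 10), (26, 10), (34, 10), (54, 10), (59, 3)],
  [(1, 3), (4, 10), (6, 10), (9, 10), (11, 10), (12, 3), (16, 3), (17, 6), (22, 10), (30, 10), (34, 10), (59, 10), (62, 3)],
  [(2, 8), (10, 8), (14, 5), (18, 11), (19, 8), (20, 5), (24, 8), (25, 8), (27, 5), (28, 8), (29, 8), (31, 5), (32, 5), (33, 5), (35, 8), (36, 5), (37, 5), (38, 8), (39, 5), (40, 5), (41, 8), (42, 8), (43, 5), (44, 8), (45, 5), (46, 8), (47, 5), (48, 8), (49, 5), (50, 5), (51, 5), (52, 8), (53, 5), (55, 8), (57, 5), (63, 6), (64, 3), (65, 2), (66, 12), (67, 9), (68, 3), (69, 6), (70, 9), (71, 10), (72, 7), (73, 4), (74, 6), (75, 12), (76, 5)],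
  [(2, 8), (10, 5), (14, 8), (18, 8), (19, 11), (20, 5), (24, 5), (25, 8), (27, 8), (28, 5), (29, 8), (31, 5), (32, 5), (33, 8), (35, 5), (36, 5), (37, 8), (38, 8), (39, 5), (40, 8), (41, 8), (42, 5), (43, 8), (44, 5), (45, 8), (46, 5), (47, 5), (48, 5), (49, 8), (50, 8), (51, 5), (52, 5), (53, 5), (55, 8), (57, 5), (63, 6), (64, 3), (65, 3), (66, 12), (67, 9), (68, 3), (69, 6), (70, 10), (71, 10), (72, 7), (73, 3), (74, 6), (75, 12), (76, 7)],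
  [(2, 8), (10, 8), (14, 8), (18, 5), (19, 5), (20, 11), (24, 5), (25, 8), (27, 5), (28, 5), (29, 5), (31, 8), (32, 5), (33, 5), (35, 8), (36, 5), (37, 8), (38, 8), (39, 8), (40, 8), (41, 8), (42, 8), (43, 8), (44, 5), (45, 5), (46, 5), (47, 8), (48, 8), (49, 5), (50, 5), (51, 5), (52, 5), (53, 5), (55, 5), (57, 8), (63, 6), (64, 4), (65, 3), (67, 9), (68, 3), (69, 7), (70, 10), (71, 9), (72, 8), (73, 4), (74, 6), (75, 1), (76, 7)],
  [(3, 10), (5, 3), (6, 10), (7, 10), (8, 10), (9, 3), (13, 10), (16, 10), (21, 6), (26, 10), (34, 10), (54, 10), (60, 3)],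
  [(0, 3), (1, 10), (4, 10), (7, 10), (8, 3), (9, 10), (15, 10), (17, 10), (22, 6), (30, 10), (34, 10), (58, 10), (62, 3)],
  [(0, 10), (3, 3), (4, 3), (5, 10), (11, 10), (12, 10), (13, 10), (15, 10), (23, 6), (26, 10), (30, 10), (56, 10), (61, 3)],
  [(2, 8), (10, 8), (14, 5), (18, 8), (19, 5), (20, 5), (24, 11), (25, 5), (27, 8), (28, 8), (29, 5), (31, 8), (32, 8), (33, 5), (35, 5), (36, 5), (37, 8), (38, 8), (39, 5), (40, 8), (41, 5), (42, 5), (43, 5), (44, 8), (45, 5), (46, 5), (47, 8), (48, 8), (49, 8), (50, 8), (51, 5), (52, 5), (53, 8), (55, 5), (57, 5), (63, 6), (64, 3), (65, 4), (67, 9), (68, 3), (69, 6), (70, 9), (71, 10), (72, 7), (73, 4), (74, 7), (75, 1), (76, 8)],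
  [(2, 8), (10, 5), (14, 5), (18, 8), (19, 8), (20, 8), (24, 5), (25, 11), (27, 5), (28, 5), (29, 5), (31, 8), (32, 8), (33, 5), (35, 8), (36, 8), (37, 5), (38, 5), (39, 8), (40, 8), (41, 5), (42, 5), (43, 5), (44, 8), (45, 8), (46, 8), (47, 8), (48, 5), (49, 5), (50, 8), (51, 5), (52, 5), (53, 5), (55, 8), (57, 5), (63, 6), (64, 3), (65, 3), (67, 9), (68, 3), (69, 7), (70, 10), (71, 10), (72, 6), (73, 3), (74, 6), (75, 1), (76, 7)],
  [(3, 10), (4, 3), (5, 10), (8, 10), (11, 10), (15, 10), (16, 10), (21, 10), (23, 10), (26, 6), (34, 10), (54, 10), (61, 3)],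
  [(2, 8), (10, 5), (14, 8), (18, 5), (19, 8), (20, 5), (24, 8), (25, 5), (27, 11), (28, 5), (29, 5), (31, 8), (32, 8), (33, 8), (35, 8), (36, 5), (37, 5), (38, 8), (39, 5), (40, 5), (41, 5), (42, 8), (43, 8), (44, 5), (45, 8), (46, 8), (47, 8), (48, 5), (49, 5), (50, 5), (51, 5), (52, 8), (53, 8), (55, 5), (57, 5), (63, 6), (64, 3), (65, 3), (67, 9), (68, 3), (69, 6), (70, 10), (71, 10), (72, 7), (73, 3), (74, 7), (75, 1), (76, 6)],
  [(2, 8), (10, 8), (14, 5), (18, 8), (19, 5), (20, 5), (24, 8), (25, 5), (27, 5), (28, 11), (29, 5), (31, 5), (32, 5), (33, 8), (35, 5), (36, 8), (37, 5), (38, 5), (39, 8), (40, 8), (41, 8), (42, 8), (43, 8), (44, 5), (45, 8), (46, 8), (47, 8), (48, 5), (49, 8), (50, 5), (51, 8), (52, 5), (53, 5), (55, 5), (57, 5), (63, 8), (64, 4), (65, 4), (67, 9), (68, 4), (69, 8), (70, 12), (71, 10), (72, 7), (73, 4), (74, 7), (75, 1), (76, 8)],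
  [(2, 5), (10, 8), (14, 8), (18, 8), (19, 8), (20, 5), (24, 5), (25, 5), (27, 5), (28, 5), (29, 11), (31, 8), (32, 8), (33, 5), (35, 8), (36, 8), (37, 5), (38, 8), (39, 8), (40, 8), (41, 8), (42, 5), (43, 5), (44, 5), (45, 5), (46, 5), (47, 5), (48, 5), (49, 8), (50, 5), (51, 8), (52, 8), (53, 8), (55, 5), (57, 5), (63, 6), (64, 3), (65, 3), (66, 12), (67, 9), (68, 3), (69, 7), (70, 10), (71, 10), (72, 7), (73, 3), (74, 7), (75, 1), (76, 7), (77, 12)],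
  [(0, 10), (3, 3), (4, 10), (9, 10), (12, 10), (13, 10), (17, 10), (22, 10), (23, 10), (30, 6), (34, 10), (56, 10), (62, 3)],
  [(2, 8), (10, 5), (14, 5), (18, 5), (19, 5), (20, 8), (24, 8), (25, 8), (27, 8), (28, 5), (29, 8), (31, 11), (32, 5), (33, 5), (35, 5), (36, 8), (37, 8), (38, 5), (39, 8), (40, 5), (41, 8), (42, 8), (43, 5), (44, 8), (45, 8), (46, 5), (47, 5), (48, 5), (49, 8), (50, 5), (51, 5), (52, 8), (53, 8), (55, 5), (57, 5), (63, 6), (64, 3), (65, 3), (66, 12), (67, 9), (68, 3), (69, 7), (70, 10), (71, 10), (72, 6), (73, 3), (74, 7), (75, 12), (76, 6)],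
  [(2, 5), (10, 8), (14, 8), (18, 5), (19, 5), (20, 5), (24, 8), (25, 8), (27, 8), (28, 5), (29, 8), (31, 5), (32, 11), (33, 5), (35, 5), (36, 8), (37, 8), (38, 8), (39, 8), (40, 5), (41, 5), (42, 8), (43, 5), (44, 5), (45, 5), (46, 8), (47, 8), (48, 5), (49, 5), (50, 8), (51, 8), (52, 5), (53, 5), (55, 8), (57, 5), (63, 6), (64, 3), (65, 3), (67, 9), (68, 3), (69, 7), (70, 10), (71, 10), (72, 7), (73, 3), (74, 6), (75, 12), (76, 6), (77, 12)],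
  [(2, 8), (10, 5), (14, 8), (18, 5), (19, 8), (20, 5), (24, 5), (25, 5), (27, 8), (28, 8), (29, 5), (31, 5), (32, 5), (33, 11), (35, 8), (36, 8), (37, 8), (38, 5), (39, 8), (40, 5), (41, 8), (42, 5), (43, 5), (44, 8), (45, 5), (46, 5), (47, 8), (48, 8), (49, 5), (50, 8), (51, 8), (52, 8), (53, 5), (55, 5), (57, 5), (63, 6), (64, 4), (65, 3), (67, 9), (68, 4), (69, 8), (70, 9), (71, 10), (72, 7), (73, 3), (74, 7), (75, 1), (76, 6)],
  [(3, 10), (4, 10), (8, 10), (9, 10), (16, 10), (17, 10), (21, 10), (22, 10), (26, 10), (30, 10), (34, 6), (54, 10), (62, 3)],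
  [(2, 5), (10, 8), (14, 5), (18, 8), (19, 5), (20, 8), (24, 5), (25, 8), (27, 8), (28, 5), (29, 8), (31, 5), (32, 5), (33, 8), (35, 11), (36, 5), (37, 8), (38, 5), (39, 5), (40, 8), (41, 5), (42, 5), (43, 8), (44, 8), (45, 5), (46, 8), (47, 8), (48, 5), (49, 5), (50, 5), (51, 8), (52, 8), (53, 8), (55, 5), (57, 5), (63, 6), (64, 3), (65, 3), (67, 9), (68, 3), (69, 6), (70, 10), (71, 10), (72, 6), (73, 3), (74, 7), (75, 12), (76, 7), (77, 12)],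
  [(2, 5), (10, 8), (14, 8), (18, 5), (19, 5), (20, 5), (24, 5), (25, 8), (27, 5), (28, 8), (29, 8), (31, 8), (32, 8), (33, 8), (35, 5), (36, 11), (37, 5), (38, 5), (39, 5), (40, 5), (41, 8), (42, 5), (43, 8), (44, 8), (45, 8), (46, 5), (47, 8), (48, 8), (49, 5), (50, 5), (51, 5), (52, 5), (53, 8), (55, 8), (57, 5), (63, 6), (64, 4), (65, 3), (67, 9), (68, 2), (69, 5), (70, 9), (71, 10), (72, 7), (73, 3), (74, 6), (75, 12), (76, 6), (77, 12)],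
  [(2, 5), (10, 8), (14, 5), (18, 5), (19, 8), (20, 8), (24, 8), (25, 5), (27, 5), (28, 5), (29, 5), (31, 8), (32, 8), (33, 8), (35, 8), (36, 5), (37, 11), (38, 5), (39, 5), (40, 5), (41, 8), (42, 8), (43, 8), (44, 8), (45, 5), (46, 5), (47, 5), (48, 5), (49, 8), (50, 8), (51, 8), (52, 5), (53, 5), (55, 8), (57, 5), (63, 6), (64, 3), (65, 3), (66, 12), (67, 9), (68, 3), (69, 6), (70, 10), (71, 10), (72, 6), (73, 3), (74, 6), (75, 12), (76, 6), (77, 12)],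
  [(2, 5), (10, 5), (14, 5), (18, 8), (19, 8), (20, 8), (24, 8), (25, 5), (27, 8), (28, 5), (29, 8), (31, 5), (32, 8), (33, 5), (35, 5), (36, 5), (37, 5), (38, 11), (39, 8), (40, 5), (41, 8), (42, 5), (43, 8), (44, 8), (45, 8), (46, 5), (47, 8), (48, 8), (49, 5), (50, 5), (51, 8), (52, 5), (53, 5), (55, 5), (57, 8), (63, 6), (64, 4), (65, 3), (67, 9), (68, 3), (69, 7), (70, 10), (71, 9), (72, 5), (73, 2), (74, 6), (75, 12), (76, 6), (77, 12)],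
  [(2, 8), (10, 5), (14, 5), (18, 5), (19, 5), (20, 8), (24, 5), (25, 8), (27, 5), (28, 8), (29, 8), (31, 8), (32, 8), (33, 8), (35, 5), (36, 5), (37, 5), (38, 8), (39, 11), (40, 5), (41, 5), (42, 5), (43, 8), (44, 5), (45, 5), (46, 8), (47, 5), (48, 8), (49, 8), (50, 8), (51, 8), (52, 8), (53, 5), (55, 5), (57, 5), (63, 6), (64, 2), (65, 3), (66, 12), (67, 9), (68, 4), (69, 5), (70, 9), (71, 10), (72, 6), (73, 3), (74, 7), (75, 12), (76, 6)],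
  [(2, 5), (10, 5), (14, 8), (18, 5), (19, 8), (20, 8), (24, 8), (25, 8), (27, 5), (28, 8), (29, 8), (31, 5), (32, 5), (33, 5), (35, 8), (36, 5), (37, 5), (38, 5), (39, 5), (40, 11), (41, 5), (42, 8), (43, 5), (44, 5), (45, 8), (46, 5), (47, 8), (48, 8), (49, 8), (50, 8), (51, 8), (52, 5), (53, 8), (55, 5), (57, 5), (63, 6), (64, 3), (65, 4), (67, 9), (68, 3), (69, 6), (70, 9), (71, 10), (72, 6), (73, 2), (74, 7), (75, 12), (76, 5), (77, 12)],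
  [(2, 5), (10, 5), (14, 5), (18, 8), (19, 8), (20, 8), (24, 5), (25, 5), (27, 5), (28, 8), (29, 8), (31, 8), (32, 5), (33, 8), (35, 5), (36, 8), (37, 8), (38, 8), (39, 5), (40, 5), (41, 11), (42, 8), (43, 5), (44, 5), (45, 5), (46, 8), (47, 8), (48, 5), (49, 5), (50, 8), (51, 5), (52, 5), (53, 8), (55, 5), (57, 8), (63, 4), (64, 1), (65, 3), (67, 9), (68, 2), (69, 5), (70, 9), (71, 9), (72, 5), (73, 2), (74, 6), (75, 12), (76, 6), (77, 12)],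
  [(2, 5), (10, 5), (14, 8), (18, 8), (19, 5), (20, 8), (24, 5), (25, 5), (27, 8), (28, 8), (29, 5), (31, 8), (32, 8), (33, 5), (35, 5), (36, 5), (37, 8), (38, 5), (39, 5), (40, 8), (41, 8), (42, 11), (43, 5), (44, 5), (45, 8), (46, 8), (47, 5), (48, 8), (49, 5), (50, 5), (51, 8), (52, 8), (53, 5), (55, 8), (57, 5), (63, 6), (64, 3), (65, 2), (66, 12), (67, 9), (68, 3), (69, 6), (70, 9), (71, 10), (72, 6), (73, 2), (74, 6), (75, 12), (76, 6), (77, 12)],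
  [(2, 5), (10, 8), (14, 5), (18, 5), (19, 8), (20, 8), (24, 5), (25, 5), (27, 8), (28, 8), (29, 5), (31, 5), (32, 5), (33, 5), (35, 8), (36, 8), (37, 8), (38, 8), (39, 8), (40, 5), (41, 5), (42, 5), (43, 11), (44, 5), (45, 8), (46, 8), (47, 5), (48, 8), (49, 8), (50, 5), (51, 5), (52, 5), (53, 8), (55, 8), (57, 5), (63, 6), (64, 2), (65, 3), (66, 12), (67, 9), (68, 2), (69, 6), (70, 9), (71, 10), (72, 6), (73, 3), (74, 6), (75, 12), (76, 6), (77, 12)],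
  [(2, 5), (10, 5), (14, 8), (18, 8), (19, 5), (20, 5), (24, 8), (25, 8), (27, 5), (28, 5), (29, 5), (31, 8), (32, 5), (33, 8), (35, 8), (36, 8), (37, 8), (38, 8), (39, 5), (40, 5), (41, 5), (42, 5), (43, 5), (44, 11), (45, 8), (46, 8), (47, 5), (48, 8), (49, 8), (50, 5), (51, 8), (52, 5), (53, 5), (55, 5), (57, 8), (63, 6), (64, 2), (65, 3), (66, 12), (67, 9), (68, 3), (69, 6), (70, 10), (71, 9), (72, 6), (73, 2), (74, 6), (75, 12), (76, 6), (77, 12)],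
  [(2, 5), (10, 8), (14, 5), (18, 5), (19, 8), (20, 5), (24, 5), (25, 8), (27, 8), (28, 8), (29, 5), (31, 8), (32, 5), (33, 5), (35, 5), (36, 8), (37, 5), (38, 8), (39, 5), (40, 8), (41, 5), (42, 8), (43, 8), (44, 8), (45, 11), (46, 5), (47, 5), (48, 5), (49, 5), (50, 8), (51, 8), (52, 8), (53, 5), (55, 5), (57, 8), (63, 4), (64, 2), (65, 2), (66, 12), (67, 9), (68, 3), (69, 6), (70, 9), (71, 9), (72, 6), (73, 3), (74, 6), (75, 12), (76, 6), (77, 12)],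
  [(2, 5), (10, 5), (14, 8), (18, 8), (19, 5), (20, 5), (24, 5), (25, 8), (27, 8), (28, 8), (29, 5), (31, 5), (32, 8), (33, 5), (35, 8), (36, 5), (37, 5), (38, 5), (39, 8), (40, 5), (41, 8), (42, 8), (43, 8), (44, 8), (45, 5), (46, 11), (47, 5), (48, 5), (49, 8), (50, 8), (51, 5), (52, 5), (53, 8), (55, 5), (57, 8), (63, 4), (64, 3), (65, 3), (66, 12), (67, 9), (68, 2), (69, 6), (70, 9), (71, 9), (72, 6), (73, 2), (74, 6), (75, 12), (76, 6), (77, 12)],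
  [(2, 5), (10, 5), (14, 5), (18, 5), (19, 5), (20, 8), (24, 8), (25, 8), (27, 8), (28, 8), (29, 5), (31, 5), (32, 8), (33, 8), (35, 8), (36, 8), (37, 5), (38, 8), (39, 5), (40, 8), (41, 8), (42, 5), (43, 5), (44, 5), (45, 5), (46, 5), (47, 11), (48, 5), (49, 8), (50, 5), (51, 5), (52, 8), (53, 5), (55, 8), (57, 8), (63, 4), (64, 1), (65, 1), (66, 10), (67, 9), (68, 2), (69, 5), (70, 9), (71, 9), (72, 5), (73, 2), (74, 5), (75, 10), (76, 5), (77, 12)],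
  [(2, 5), (10, 5), (14, 8), (18, 8), (19, 5), (20, 8), (24, 8), (25, 5), (27, 5), (28, 5), (29, 5), (31, 5), (32, 5), (33, 8), (35, 5), (36, 8), (37, 5), (38, 8), (39, 8), (40, 8), (41, 5), (42, 8), (43, 8), (44, 8), (45, 5), (46, 5), (47, 5), (48, 11), (49, 5), (50, 8), (51, 5), (52, 8), (53, 8), (55, 8), (57, 5), (63, 4), (64, 2), (65, 2), (66, 12), (67, 9), (68, 2), (69, 6), (70, 10), (71, 10), (72, 6), (73, 2), (74, 6), (75, 12), (76, 6), (77, 12)],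
  [(2, 5), (10, 5), (14, 8), (18, 5), (19, 8), (20, 5), (24, 8), (25, 5), (27, 5), (28, 8), (29, 8), (31, 8), (32, 5), (33, 5), (35, 5), (36, 5), (37, 8), (38, 5), (39, 8), (40, 8), (41, 5), (42, 5), (43, 8), (44, 8), (45, 5), (46, 8), (47, 8), (48, 5), (49, 11), (50, 5), (51, 5), (52, 8), (53, 5), (55, 8), (57, 8), (63, 4), (64, 3), (65, 1), (67, 9), (68, 2), (69, 6), (70, 9), (71, 9), (72, 6), (73, 2), (74, 5), (75, 12), (76, 5), (77, 12)],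
  [(2, 5), (10, 8), (14, 5), (18, 5), (19, 8), (20, 5), (24, 8), (25, 8), (27, 5), (28, 5), (29, 5), (31, 5), (32, 8), (33, 8), (35, 5), (36, 5), (37, 8), (38, 5), (39, 8), (40, 8), (41, 8), (42, 5), (43, 5), (44, 5), (45, 8), (46, 8), (47, 5), (48, 8), (49, 5), (50, 11), (51, 5), (52, 8), (53, 8), (55, 5), (57, 8), (63, 6), (64, 3), (65, 2), (66, 12), (67, 9), (68, 2), (69, 6), (70, 10), (71, 9), (72, 6), (73, 3), (74, 6), (75, 12), (76, 6), (77, 12)],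
  [(2, 8), (10, 5), (14, 5), (18, 5), (19, 5), (20, 5), (24, 5), (25, 5), (27, 5), (28, 8), (29, 8), (31, 5), (32, 8), (33, 8), (35, 8), (36, 5), (37, 8), (38, 8), (39, 8), (40, 8), (41, 5), (42, 8), (43, 5), (44, 8), (45, 8), (46, 5), (47, 5), (48, 5), (49, 5), (50, 5), (51, 11), (52, 5), (53, 8), (55, 8), (57, 8), (63, 4), (64, 2), (65, 2), (66, 12), (67, 9), (68, 1), (69, 5), (70, 9), (71, 9), (72, 6), (73, 3), (74, 5), (75, 12), (76, 6)],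
  [(2, 5), (10, 8), (14, 5), (18, 8), (19, 5), (20, 5), (24, 5), (25, 5), (27, 8), (28, 5), (29, 8), (31, 8), (32, 5), (33, 8), (35, 8), (36, 5), (37, 5), (38, 5), (39, 8), (40, 5), (41, 5), (42, 8), (43, 5), (44, 5), (45, 8), (46, 5), (47, 8), (48, 8), (49, 8), (50, 8), (51, 5), (52, 11), (53, 5), (55, 8), (57, 8), (63, 6), (64, 3), (65, 4), (67, 9), (68, 2), (69, 6), (70, 10), (71, 9), (72, 6), (73, 3), (74, 5), (75, 12), (76, 7), (77, 12)],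
  [(2, 8), (10, 5), (14, 5), (18, 5), (19, 5), (20, 5), (24, 8), (25, 5), (27, 8), (28, 5), (29, 8), (31, 8), (32, 5), (33, 5), (35, 8), (36, 8), (37, 5), (38, 5), (39, 5), (40, 8), (41, 8), (42, 5), (43, 8), (44, 5), (45, 5), (46, 8), (47, 5), (48, 8), (49, 5), (50, 8), (51, 8), (52, 5), (53, 11), (55, 8), (57, 8), (63, 6), (64, 3), (65, 2), (66, 12), (67, 9), (68, 4), (69, 7), (70, 10), (71, 9), (72, 6), (73, 3), (74, 5), (75, 12), (76, 6)],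
  [(3, 10), (8, 10), (16, 10), (21, 10), (26, 10), (34, 10), (54, 6), (56, 10), (58, 10), (59, 10), (60, 10), (61, 10), (62, 10)],
  [(2, 8), (10, 5), (14, 5), (18, 8), (19, 8), (20, 5), (24, 5), (25, 8), (27, 5), (28, 5), (29, 5), (31, 5), (32, 8), (33, 5), (35, 5), (36, 8), (37, 8), (38, 5), (39, 5), (40, 5), (41, 5), (42, 8), (43, 8), (44, 5), (45, 5), (46, 5), (47, 8), (48, 8), (49, 8), (50, 5), (51, 8), (52, 8), (53, 8), (55, 11), (57, 8), (63, 6), (64, 3), (65, 4), (67, 9), (68, 4), (69, 7), (70, 10), (71, 9), (72, 6), (73, 3), (74, 8), (75, 1), (76, 7)],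
  [(0, 10), (3, 3), (12, 10), (13, 10), (23, 10), (30, 10), (54, 10), (56, 6), (58, 10), (59, 10), (60, 10), (61, 10), (62, 10)],
  [(2, 8), (10, 8), (14, 8), (18, 5), (19, 5), (20, 8), (24, 5), (25, 5), (27, 5), (28, 5), (29, 5), (31, 5), (32, 5), (33, 5), (35, 5), (36, 5), (37, 5), (38, 8), (39, 5), (40, 5), (41, 8), (42, 5), (43, 5), (44, 8), (45, 8), (46, 8), (47, 8), (48, 5), (49, 8), (50, 8), (51, 8), (52, 8), (53, 8), (55, 8), (57, 11), (63, 8), (64, 4), (65, 4), (67, 9), (68, 4), (69, 7), (70, 10), (71, 12), (72, 8), (73, 4), (74, 8), (75, 1), (76, 7)],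
  [(0, 3), (1, 10), (7, 10), (8, 3), (15, 10), (22, 10), (54, 10), (56, 10), (58, 6), (59, 10), (60, 10), (61, 10), (62, 10)],
  [(1, 3), (6, 10), (11, 10), (12, 3), (16, 3), (17, 10), (54, 10), (56, 10), (58, 10), (59, 6), (60, 10), (61, 10), (62, 10)],
  [(5, 10), (6, 3), (7, 3), (9, 10), (13, 3), (21, 3), (54, 10), (56, 10), (58, 10), (59, 10), (60, 6), (61, 10), (62, 10)],
  [(4, 10), (5, 3), (11, 3), (15, 3), (23, 3), (26, 3), (54, 10), (56, 10), (58, 10), (59, 10), (60, 10), (61, 6), (62, 10)],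
  [(4, 3), (9, 3), (17, 3), (22, 3), (30, 3), (34, 3), (54, 10), (56, 10), (58, 10), (59, 10), (60, 10), (61, 10), (62, 6)],
  [(37, 8), (42, 5), (43, 5), (44, 5), (45, 8), (46, 8), (48, 8), (50, 5), (63, 6)],
  [(32, 8), (36, 5), (37, 5), (38, 5), (41, 8), (43, 8), (44, 8), (46, 5), (64, 6)],
  [(35, 8), (37, 5), (40, 5), (42, 8), (46, 5), (49, 8), (50, 8), (52, 5), (65, 6)],
  [(29, 8), (32, 5), (35, 5), (37, 8), (41, 5), (46, 8), (47, 8), (49, 5), (66, 6)],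
  [(2, 9), (10, 4), (14, 4), (18, 4), (19, 4), (20, 4), (24, 4), (25, 4), (27, 4), (28, 4), (29, 9), (31, 4), (32, 4), (33, 4), (35, 4), (36, 4), (37, 9), (38, 4), (39, 4), (40, 4), (41, 4), (42, 4), (43, 4), (44, 4), (45, 9), (46, 9), (47, 9), (48, 9), (49, 4), (50, 4), (51, 4), (52, 4), (53, 4), (55, 4), (57, 4), (63, 4), (64, 2), (65, 2), (66, 7), (67, 5), (68, 2), (69, 10), (70, 5), (71, 5), (72, 10), (73, 2), (74, 10), (75, 7), (76, 10), (77, 7)],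
  [(31, 8), (37, 5), (39, 5), (43, 8), (45, 5), (50, 8), (51, 8), (53, 5), (68, 6)],
  [(27, 8), (31, 5), (32, 5), (33, 5), (36, 8), (37, 8), (39, 8), (43, 5), (69, 6)],
  [(24, 8), (27, 5), (28, 5), (33, 8), (37, 5), (42, 8), (43, 8), (48, 5), (70, 6)],
  [(20, 8), (25, 5), (37, 5), (44, 8), (48, 5), (50, 8), (55, 8), (57, 5), (71, 6)],
  [(14, 8), (19, 5), (20, 5), (25, 8), (32, 5), (37, 8), (38, 8), (44, 5), (72, 6)],
  [(10, 8), (14, 5), (18, 5), (19, 8), (37, 5), (42, 8), (44, 8), (45, 5), (73, 6)],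
  [(25, 8), (31, 5), (35, 5), (37, 8), (50, 5), (52, 8), (53, 8), (55, 5), (74, 6)],
  [(19, 8), (25, 5), (27, 5), (29, 5), (31, 8), (32, 8), (35, 8), (37, 5), (75, 6)],
  [(18, 8), (19, 5), (24, 5), (27, 8), (35, 5), (37, 8), (40, 8), (42, 5), (76, 6)],
  [(2, 8), (10, 5), (19, 5), (29, 8), (31, 5), (37, 8), (45, 8), (51, 5), (77, 6)]]

/-- all generators -/
def gensData : List (List (List (ℕ × ℕ))) := [cols0, cols1, cols2, cols3, cols4, cols5, cols6, cols7, cols8]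

end Cfsg.Agent.Lib.FiTwentyTwoRep
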