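import Mathlib
import Cfsg.Agent.Lib.FiTwentyTwoRep.Data
import Cfsg.Agent.Lib.Compute.Perm

/-! A kernel check that words in sparse matrices modulo 13 are the identity. Columns are packed with wide
digits, so that nothing is reduced before the last step. -/

set_option autoImplicit false
set_option maxRecDepth 4000
set_option maxHeartbeats 1000000

namespace Cfsg.Agent.Lib.FiTwentyTwoRep

open Cfsg.Agent.Lib.Compute

/-- width of a digit -/
def wid : ℕ := 832

/-- combination of entries given by a sparse column -/
noncomputable def lin (col : List (ℕ × ℕ)) (f : ℕ → ℕ) : ℕ :=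
  List.rec (motive := fun _ => ℕ) 0 (fun kc _ acc => Nat.add (Nat.mul kc.2 (f kc.1)) acc) col

/-- total weight of a sparse column -/
def weight (col : List (ℕ × ℕ)) : ℕ := col.foldr (fun kc acc => kc.2 + acc) 0

/-- the sparse columns of a generator -/
def colOf (g c : ℕ) : List (ℕ × ℕ) := (gensData.getD g []).getD c []

/-- largest column weight of a generator -/
def bnd (g : ℕ) : ℕ := ((gensData.getD g []).map weight).foldr max 0

/-- exact entries of a word, `ent w c r` being column `c`, row `r` -/
noncomputable def ent : List ℕ → ℕ → ℕ → ℕ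
  | [], c, r => if c = r then 1 else 0
  | g :: w, c, r => lin (colOf g c) fun k => ent w k r

/-- bound for the entries of a word -/
def bword : List ℕ → ℕ
  | [] => 1
  | g :: w => bnd g * bword w

/-- evaluate a list to literals before use -/
noncomputable def forceL {β : Type} (l : List ℕ) : (List ℕ → β) → β :=
  List.rec (motive := fun _ => (List ℕ → β) → β) (fun k => k [])
    (fun a _ rec k => forceNat a fun a => rec fun l => k (a :: l)) l

/-- entry `i` of a list -/
noncomputable def nth (l : List ℕ) : ℕ → ℕ :=
  List.rec (motive := fun _ => ℕ → ℕ) (fun _ => 0)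
    (fun a _ rec i => Nat.rec (motive := fun _ => ℕ) a (fun m _ => rec m) i) l

/-- map, by the recursor -/
noncomputable def mapR {α : Type} (f : α → ℕ) (l : List α) : List ℕ :=
  List.rec (motive := fun _ => List ℕ) [] (fun a _ r => f a :: r) l

theorem nth_eq : ∀ (l : List ℕ) (i : ℕ), nth l i = l.getD i 0
  | [], _ => by simp [nth]
  | a :: l, 0 => rfl
  | a :: l, i + 1 => by
    show nth l i = _
    rw [nth_eq l i, List.getD_cons_succ]

theorem mapR_eq {α : Type} (f : α → ℕ) : ∀ l : List α, mapR f l = l.map f
  | [] => rfl
  | a :: l => congrArg (f a :: ·) (mapR_eq f l)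

theorem lin_cons (kc : ℕ × ℕ) (l : List (ℕ × ℕ)) (f : ℕ → ℕ) :
    lin (kc :: l) f = kc.2 * f kc.1 + lin l f := rfl

theorem forceL_eq {β : Type} : ∀ (l : List ℕ) (k : List ℕ → β), forceL l k = k l
  | [], _ => rfl
  | a :: l, k => by
    show (forceNat a fun a => forceL l fun l => k (a :: l)) = _
    rw [forceNat_eq, forceL_eq l]

/-- packed columns before the first step -/
noncomputable def start : List ℕ :=
  (List.range 78).map fun c => packP wid (fun r => if c = r then 1 else 0) 78

/-- one step on packed columns -/
noncomputable def next (g : ℕ) (X : List ℕ) : List ℕ :=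
  mapR (fun col => lin col fun k => nth X k) (gensData.getD g [])

/-- run a word -/
noncomputable def run {β : Type} : List ℕ → (List ℕ → β) → β
  | [], k => forceL start k
  | g :: w, k => run w fun X => forceL (next g X) k

/-- packed columns of a word -/
noncomputable def cols : List ℕ → List ℕ
  | [] => start
  | g :: w => next g (cols w)

theorem run_eq {β : Type} : ∀ (w : List ℕ) (k : List ℕ → β), run w k = k (cols w)
  | [], k => by rw [run, forceL_eq]; rfl
  | g :: w, k => by rw [run, run_eq w, forceL_eq]; rfl

theorem packP_add (f g : ℕ → ℕ) : ∀ n, packP wid (fun i => f i + g i) n = packP wid f n + packP wid g n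
  | 0 => rfl
  | n + 1 => by rw [packP_succ, packP_succ, packP_succ, packP_add f g n]; ring

theorem packP_smul (c : ℕ) (f : ℕ → ℕ) : ∀ n, packP wid (fun i => c * f i) n = c * packP wid f n
  | 0 => by simp [packP]
  | n + 1 => by rw [packP_succ, packP_succ, packP_smul c f n]; ring

theorem packP_zero : ∀ n, packP wid (fun _ => 0) n = 0
  | 0 => rfl
  | n + 1 => by rw [packP_succ, packP_zero n]; simp

theorem lin_packP (F : ℕ → ℕ → ℕ) (n : ℕ) : ∀ col : List (ℕ × ℕ),
    lin col (fun k => packP wid (F k) n) = packP wid (fun r => lin col fun k => F k r) n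
  | [] => (packP_zero n).symm
  | (k, c) :: l => by
    have h := lin_packP F n l
    simp only [lin_cons] at h ⊢
    rw [h, packP_add, packP_smul]

theorem lin_congr {f g : ℕ → ℕ} : ∀ col : List (ℕ × ℕ), (∀ kc ∈ col, f kc.1 = g kc.1) → lin col f = lin col g
  | [], _ => rfl
  | kc :: l, h => by
    have h' := lin_congr l fun x hx => h x (List.mem_cons_of_mem _ hx)
    simp only [lin_cons] at h' ⊢
    rw [h', h kc List.mem_cons_self]

theorem data_ok : gensData.length = 9 ∧ ∀ g < 9, (gensData.getD g []).length = 78 ∧
    (gensData.getD g []).all (fun col => col.all fun kc => decide (kc.1 < 78)) = true := by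
  decide +kernel

theorem cols_eq : ∀ w : List ℕ, (∀ g ∈ w, g < 9) →
    cols w = (List.range 78).map fun c => packP wid (ent w c) 78
  | [], _ => rfl
  | g :: w, h => by
    have hg : g < 9 := h g List.mem_cons_self
    obtain ⟨hl, ha⟩ := data_ok.2 g hg
    rw [cols, cols_eq w fun x hx => h x (List.mem_cons_of_mem _ hx), next]
    simp only [mapR_eq, nth_eq]
    refine List.ext_getElem (by rw [List.length_map, List.length_map, hl, List.length_range]) fun c h1 h2 => ?_
    simp only [List.getElem_map, List.getElem_range]
    have hc : colOf g c = (gensData.getD g [])[c]'(by simpa using h1) := by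
      rw [colOf, List.getD_eq_getElem]
    rw [← hc]
    have e : (fun r => ent (g :: w) c r) = fun r => lin (colOf g c) fun k => ent w k r := rfl
    change _ = packP wid (fun r => ent (g :: w) c r) 78
    rw [e, ← lin_packP]
    refine lin_congr _ fun kc hkc => ?_
    have : kc.1 < 78 := by
      rw [List.all_eq_true] at ha
      have := ha _ (List.getElem_mem (h := by simpa using h1))
      rw [List.all_eq_true] at this
      rw [hc] at hkc
      simpa using this _ hkc
    rw [List.getD_eq_getElem _ _ (by simpa using this)]
    simp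

theorem lin_le {f : ℕ → ℕ} {B : ℕ} (h : ∀ k, f k ≤ B) : ∀ col : List (ℕ × ℕ), lin col f ≤ weight col * B
  | [] => by simp [lin]
  | (k, c) :: l => by
    have h' := lin_le h l
    simp only [lin_cons, weight, List.foldr_cons] at h' ⊢
    rw [Nat.add_mul]
    exact Nat.add_le_add (Nat.mul_le_mul_left _ (h k)) h'

theorem le_foldr_max : ∀ (l : List ℕ) (a : ℕ), a ∈ l → a ≤ l.foldr max 0
  | [], _, h => by simp at h
  | b :: l, a, h => by
    rcases List.mem_cons.1 h with rfl | h
    · simp
    · simp only [List.foldr_cons]; exact le_trans (le_foldr_max l a h) (le_max_right _ _)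

theorem weight_le (g c : ℕ) : weight (colOf g c) ≤ bnd g := by
  rcases Nat.lt_or_ge c (gensData.getD g []).length with h | h
  · rw [colOf, List.getD_eq_getElem _ _ h]
    exact le_foldr_max _ _ (List.mem_map_of_mem (List.getElem_mem h))
  · rw [colOf, List.getD_eq_default _ _ h]
    exact Nat.zero_le _

theorem ent_le : ∀ (w : List ℕ) (c r : ℕ), ent w c r ≤ bword w
  | [], c, r => by simp only [ent, bword]; split <;> simp
  | g :: w, c, r => by
    simp only [ent, bword]
    exact le_trans (lin_le (fun k => ent_le w k r) _) (Nat.mul_le_mul_right _ (weight_le g c))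

/-- the matrix of a generator modulo 13 -/
noncomputable def mat (g : ℕ) : Matrix (Fin 78) (Fin 78) (ZMod 13) :=
  fun k c => (lin (colOf g c) fun x => if x = (k : ℕ) then 1 else 0 : ℕ)

/-- the matrix of a word -/
noncomputable def wmat : List ℕ → Matrix (Fin 78) (Fin 78) (ZMod 13)
  | [] => 1
  | g :: w => wmat w * mat g

theorem lin_cast {n : ℕ} {R : Type*} [CommSemiring R] (f : ℕ → ℕ) :
    ∀ col : List (ℕ × ℕ), (∀ kc ∈ col, kc.1 < n) →
    ((lin col f : ℕ) : R) =
      ∑ k : Fin n, (f k : R) * ((lin col fun x => if x = (k : ℕ) then 1 else 0 : ℕ) : R)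
  | [], _ => by simp [lin]
  | (x, c) :: l, h => by
    have h' := lin_cast (n := n) (R := R) f l fun y hy => h y (List.mem_cons_of_mem _ hy)
    have hx : x < n := h _ List.mem_cons_self
    simp only [lin_cons] at h' ⊢
    simp only [Nat.cast_add, Nat.cast_mul, mul_add, Finset.sum_add_distrib, h']
    have e : (∑ k : Fin n, (f k : R) * ((c : R) * ((if x = (k : ℕ) then 1 else 0 : ℕ) : R))) =
        (c : R) * (f x : R) := by
      rw [Finset.sum_eq_single (⟨x, hx⟩ : Fin n)]
      · simp [mul_comm]
      · intro b _ hb
        have hne : ¬ x = (b : ℕ) := fun e => hb (Fin.ext e.symm)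
        simp [hne]
      · simp
    rw [e]

theorem colOf_lt {g c : ℕ} (hg : g < 9) : ∀ kc ∈ colOf g c, kc.1 < 78 := by
  intro kc hkc
  obtain ⟨hl, ha⟩ := data_ok.2 g hg
  rcases Nat.lt_or_ge c (gensData.getD g []).length with h | h
  · rw [colOf, List.getD_eq_getElem _ _ h] at hkc
    rw [List.all_eq_true] at ha
    have := ha _ (List.getElem_mem h)
    rw [List.all_eq_true] at this
    simpa using this _ hkc
  · rw [colOf, List.getD_eq_default _ _ h] at hkc
    simp at hkc

theorem wmat_apply : ∀ w : List ℕ, (∀ g ∈ w, g < 9) → ∀ r c : Fin 78,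
    wmat w r c = (ent w c r : ZMod 13)
  | [], _, r, c => by simp [wmat, ent, Matrix.one_apply, Fin.val_inj, eq_comm]
  | g :: w, h, r, c => by
    have ih := wmat_apply w fun x hx => h x (List.mem_cons_of_mem _ hx)
    have hs := lin_cast (n := 78) (R := ZMod 13) (fun k => ent w k r) (colOf g c) (colOf_lt (h g List.mem_cons_self))
    rw [wmat, Matrix.mul_apply, ent, hs]
    exact Finset.sum_congr rfl fun k _ => by rw [ih r k]; rfl

/-- the kernel check: the word is the identity modulo 13 -/
noncomputable def isId (w : List ℕ) : Bool :=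
  w.all (fun g => decide (g < 9)) && Nat.blt (bword w) (2 ^ wid) &&
    run w fun X => (List.range 78).all fun c => (List.range 78).all fun r =>
      getP wid (nth X c) r % 13 == if c = r then 1 else 0

theorem wmat_eq_one {w : List ℕ} (h : isId w = true) : wmat w = 1 := by
  simp only [isId, Bool.and_eq_true, List.all_eq_true, decide_eq_true_eq, run_eq,
    List.mem_range, beq_iff_eq, Nat.blt_eq, nth_eq] at h
  obtain ⟨⟨hw, hb⟩, hc⟩ := h
  ext r c
  rw [wmat_apply w hw, Matrix.one_apply]
  have := hc c c.isLt r r.isLt
  rw [cols_eq w hw, List.getD_eq_getElem _ _ (by simp), List.getElem_map, List.getElem_range,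
    getP_packP (fun i _ => lt_of_le_of_lt (ent_le w c i) hb) r.isLt] at this
  rw [← ZMod.natCast_mod, this]
  simp [Fin.val_inj, eq_comm]

end Cfsg.Agent.Lib.FiTwentyTwoRep
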