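import Mathlib
import Cfsg.Agent.Lib.FiTwentyTwoRep.Basic
import Cfsg.Agent.S1687

/-! The relator words of Fi22. -/

set_option autoImplicit false

namespace Cfsg.Agent.Lib.FiTwentyTwoRep

open Cfsg.Agent.Lib.CosetTable

/-- the list of relator words -/
noncomputable def relList : List (List ℕ) := Pres.relWords Cfsg.Agent.S1687.pres

theorem relList_length : relList.length = 48 := by decide +kernel

end Cfsg.Agent.Lib.FiTwentyTwoRep
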