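import Mathlib
import Cfsg.Agent.Lib.FiTwentyTwoRep.RelList

/-! A share of the relators of Fi22 checked on the nine matrices. -/

set_option autoImplicit false
set_option Elab.async false

namespace Cfsg.Agent.Lib.FiTwentyTwoRep

theorem part2 : ((relList.drop 12).take 6).all isId = true := by decide +kernel

theorem part3 : ((relList.drop 18).take 6).all isId = true := by decide +kernel

end Cfsg.Agent.Lib.FiTwentyTwoRep
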