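import Mathlib
import Cfsg.Agent.Lib.FiTwentyTwoRep.PartA
import Cfsg.Agent.Lib.FiTwentyTwoRep.PartB
import Cfsg.Agent.Lib.FiTwentyTwoRep.PartC
import Cfsg.Agent.Lib.FiTwentyTwoRep.PartD

/-! The defining relations of Fi22 hold for the nine matrices. -/

set_option autoImplicit false

namespace Cfsg.Agent.Lib.FiTwentyTwoRep

open Cfsg.Agent.Lib.CosetTable

theorem rels_ok : relList.all isId = true := by
  rw [List.all_eq_true]
  intro w hw
  obtain ⟨i, hi, rfl⟩ := List.getElem_of_mem hw
  have hi' : i < 48 := relList_length ▸ hi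
  have key : ∀ k, ((relList.drop k).take 6).all isId = true → k ≤ i → i < k + 6 →
      isId relList[i] = true := by
    intro k h hk hk'
    refine List.all_eq_true.1 h _ (List.mem_iff_getElem.2 ⟨i - k, ?_, ?_⟩)
    · simp only [List.length_take, List.length_drop]; omega
    · rw [List.getElem_take, List.getElem_drop]; congr 1; omega
  rcases Nat.lt_or_ge i 6 with h0 | h0
  · exact key 0 part0 (Nat.zero_le _) h0
  rcases Nat.lt_or_ge i 12 with h1 | h1
  · exact key 6 part1 h0 h1
  rcases Nat.lt_or_ge i 18 with h2 | h2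
  · exact key 12 part2 h1 h2
  rcases Nat.lt_or_ge i 24 with h3 | h3
  · exact key 18 part3 h2 h3
  rcases Nat.lt_or_ge i 30 with h4 | h4
  · exact key 24 part4 h3 h4
  rcases Nat.lt_or_ge i 36 with h5 | h5
  · exact key 30 part5 h4 h5
  rcases Nat.lt_or_ge i 42 with h6 | h6
  · exact key 36 part6 h5 h6
  exact key 42 part7 h6 (by omega)

end Cfsg.Agent.Lib.FiTwentyTwoRep
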