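import Mathlib
import Cfsg.Agent.Lib.FiTwentyTwoRep.Checks

/-! The homomorphism from Fi22 to GL(78, 13). -/

set_option autoImplicit false

namespace Cfsg.Agent.Lib.FiTwentyTwoRep

open Cfsg.Agent.Lib.CosetTable
open Cfsg.Spor

attribute [local irreducible] mat lin

/-- generator number `g` as an invertible matrix -/
@[irreducible] noncomputable def unitGen (g : ℕ) : GL (Fin 78) (ZMod 13) :=
  @dite _ (mat g * mat g = 1) (Classical.dec _) (fun h =>  ⟨mat g, mat g, h, h⟩) fun _ => 1

theorem mat_sq {g : ℕ} (hg : g < 9) : mat g * mat g = 1 := by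
  have h := wmat_eq_one (List.all_eq_true.1 invol_ok g (List.mem_range.2 hg))
  simpa [wmat] using h

theorem unitGen_val {g : ℕ} (hg : g < 9) : (unitGen g).val = mat g := by
  rw [unitGen, dif_pos (mat_sq hg)]

theorem unitGen_sq {g : ℕ} (hg : g < 9) : unitGen g * unitGen g = 1 :=
  Units.ext (by rw [Units.val_mul, unitGen_val hg, mat_sq hg, Units.val_one])

theorem eval_val : ∀ w : List ℕ, (∀ g ∈ w, g < 9) → (eval unitGen w).val = wmat w
  | [], _ => rfl
  | g :: w, h => by
    rw [eval, Units.val_mul, eval_val w fun x hx => h x (List.mem_cons_of_mem _ hx),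
      unitGen_val (h g List.mem_cons_self), wmat]

theorem exists_hom : ∃ φ : Fi22 →* GL (Fin 78) (ZMod 13),
    φ (PresentedGroup.of Fi22.Gen.a) = unitGen 0 := by
  classical
  let P := Cfsg.Agent.S1687.pres
  have hP : P.Good := Cfsg.Agent.S1687.pres_good
  let pα : Fi22.Gen → GL (Fin 78) (ZMod 13) := fun x => unitGen (P.idx x)
  have hg : ∀ n, n < P.k → pα (P.gen n) = unitGen n := fun n hn => by
    simp only [pα, hP.idx_gen n hn]
  have hsq : ∀ n, n < P.k → unitGen n * unitGen n = 1 := fun n hn => unitGen_sq hn
  have key : ∀ e ∈ P.coxE ++ P.extraE, FreeGroup.lift pα (e.free P.gen) = 1 := by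
    intro e he
    have hm := List.all_eq_true.1 rels_ok e.word (List.mem_map_of_mem he)
    have hl : ∀ a ∈ e.word, a < 9 := by
      have h := hm
      simp only [isId, Bool.and_eq_true, List.all_eq_true, decide_eq_true_eq] at h
      exact h.1.1
    have hw : eval unitGen e.word = 1 := by
      apply Units.ext
      rw [Units.val_one, eval_val e.word hl]
      exact wmat_eq_one hm
    have hl' : ∀ a ∈ e.word, a < P.k := fun a ha => hl a ha
    have X := lift_word_eq_one_iff (g := pα) (gen := P.gen) (k := P.k) unitGen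
    have X1 := X hg
    have X2 := X1 hsq
    have X3 := X2 e hl'
    exact X3.2 hw
  have hrel : ∀ r ∈ coxRelators P.edges ∪ {r | r ∈ Fi22.extra}, FreeGroup.lift pα r = 1 := by
    rintro r (⟨x, _, y, _, rfl⟩ | hm)
    · have base : ∀ x y : Fi22.Gen, P.idx x ≤ P.idx y →
          (pα x * pα y) ^ coxLabel P.edges x y = 1 := by
        intro x y hle
        have hmem : WExp.pow (.mul (.of (P.idx x)) (.of (P.idx y)))
            (coxLabel P.edges (P.gen (P.idx x)) (P.gen (P.idx y))) ∈ P.coxE := by
          simp only [Pres.coxE, List.mem_flatMap, List.mem_range, List.mem_range'_1, List.mem_map]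
          have := hP.idx_lt y
          exact ⟨_, hP.idx_lt x, _, ⟨hle, by omega⟩, rfl⟩
        simpa [WExp.free, hP.gen_idx] using key _ (List.mem_append_left _ hmem)
      simp only [map_pow, map_mul, FreeGroup.lift_apply_of]
      rcases le_total (P.idx x) (P.idx y) with hle | hle
      · exact base x y hle
      · have hs : coxLabel P.edges y x = coxLabel P.edges x y := by
          simp only [coxLabel, eq_comm (a := y) (b := x), or_comm]
        have h := base y x hle
        rw [hs] at h
        have hi : ∀ z : Fi22.Gen, (pα z)⁻¹ = pα z := fun z =>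
          inv_eq_of_mul_eq_one_right (hsq _ (hP.idx_lt z))
        rw [← inv_eq_one, ← inv_pow, mul_inv_rev, hi, hi]
        exact h
    · change r ∈ Fi22.extra at hm
      rw [← Cfsg.Agent.S1687.certified.extra_eq, List.mem_map] at hm
      obtain ⟨e, he, rfl⟩ := hm
      exact key e (List.mem_append_right _ he)
  exact ⟨PresentedGroup.toGroup hrel, PresentedGroup.toGroup.of hrel⟩

theorem mat_zero_ne_one : mat 0 ≠ 1 := by
  intro h
  have h' := congrFun (congrFun h 0) 0
  revert h'
  decide +kernel

end Cfsg.Agent.Lib.FiTwentyTwoRep
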